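import Cfsg.Agent.Lib.KnownA.AltMult.General
import Cfsg.Agent.Lib.KnownA.SL2Borel
import Cfsg.Agent.Lib.Classical.SLGen
import Mathlib

/-!
Stem extensions of `SL₂(9)` have kernel of order at most 3.
-/

set_option autoImplicit false

namespace CfsgLib.KnownA.AltMult

open CfsgLib.KnownA.SL2Stem
open scoped commutatorElement

variable {F : Type*} [Field F] [Fintype F]

theorem commutator_sl_nine (hF : Fintype.card F = 9) :
    commutator (Matrix.SpecialLinearGroup (Fin 2) F) = ⊤ := by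
  classical
  obtain ⟨g, hg⟩ := IsCyclic.exists_generator (α := Fˣ)
  set C := commutator (Matrix.SpecialLinearGroup (Fin 2) F) with hC
  have hord : orderOf g = 8 := by
    rw [orderOf_eq_card_of_forall_mem_zpowers hg, Nat.card_units, Nat.card_eq_fintype_card, hF]
  have hne : (g : F) * g - 1 ≠ 0 := fun h => by
    have : g ^ 2 = 1 := Units.ext (by
      rw [Units.val_pow_eq_pow_val, sq, Units.val_one]; exact sub_eq_zero.1 h)
    have h2 := orderOf_dvd_of_pow_eq_one this
    rw [hord] at h2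
    omega
  -- upper unipotent
  have hu : ∀ x : F, ut (Multiplicative.ofAdd x) ∈ C := fun x => by
    set y := x / ((g : F) * g - 1)
    have e : ⁅dg g, ut (Multiplicative.ofAdd y)⁆ = ut (Multiplicative.ofAdd x) := by
      rw [commutatorElement_def, dg_ut, ← map_inv, ← map_mul]
      congr 1
      apply Multiplicative.toAdd.injective
      simp only [toAdd_mul, toAdd_ofAdd, toAdd_inv]
      rw [show (g : F) * g * y + -y = ((g : F) * g - 1) * y by ring, mul_div_cancel₀ _ hne]
    rw [← e, hC, commutator_def]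
    exact Subgroup.commutator_mem_commutator (Subgroup.mem_top _) (Subgroup.mem_top _)
  refine CfsgLib.Classical.sl_transvection_induction _ fun i j hij x => ?_
  fin_cases i <;> fin_cases j
  · exact absurd rfl hij
  · convert hu x using 1
    apply Subtype.ext
    rw [ut_val]
    ext a b
    fin_cases a <;> fin_cases b <;>
      simp [Matrix.SpecialLinearGroup.transvection_coe, Matrix.transvection, Matrix.single, Matrix.one_apply]
  · haveI : C.Normal := by rw [hC]; infer_instance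
    let w : Matrix.SpecialLinearGroup (Fin 2) F := ⟨!![0, 1; -1, 0], by simp [Matrix.det_fin_two]⟩
    have := this.conj_mem _ (hu (-x)) w
    convert this using 1
    rw [eq_mul_inv_iff_mul_eq]
    apply Subtype.ext
    rw [Matrix.SpecialLinearGroup.coe_mul, Matrix.SpecialLinearGroup.coe_mul, ut_val]
    ext a b
    fin_cases a <;> fin_cases b <;>
      simp [w, Matrix.SpecialLinearGroup.transvection_coe, Matrix.transvection, Matrix.single, Matrix.one_apply,
        Matrix.mul_apply, Fin.sum_univ_two]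
  · exact absurd rfl hij

theorem stemBound_sl_nine.{u, v} {F : Type u} [Field F] [Fintype F] (hF : Fintype.card F = 9) :
    StemBound.{v} (Matrix.SpecialLinearGroup (Fin 2) F) 3 := by
  intro Γ _ _ σ hσ
  classical
  have hp3 : ringChar F = 3 := by
    obtain ⟨p, hpF⟩ := CharP.exists F
    rw [ringChar.eq F p]
    obtain ⟨n, hp, hc⟩ := FiniteField.card F p
    have : p ∣ 3 ^ 2 := by rw [show (3 : ℕ) ^ 2 = p ^ (n : ℕ) by rw [← hc, hF]; norm_num]; exact dvd_pow_self p n.pos.ne'
    exact (Nat.prime_dvd_prime_iff_eq hp Nat.prime_three).1 (hp.dvd_of_dvd_pow this)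
  haveI : CharP F 3 := hp3 ▸ ringChar.charP F
  have cen : ∀ a ∈ σ.ker, ∀ g : Γ, g * a = a * g := fun a ha g =>
    Subgroup.mem_center_iff.mp (hσ.2.1 ha) g
  choose r hr using fun x : F => hσ.1 (ut (Multiplicative.ofAdd x))
  have decomp : ∀ (g : Γ) (x : F), σ g = ut (Multiplicative.ofAdd x) → ∃ a ∈ σ.ker, g = a * r x := by
    intro g x hg
    refine ⟨g * (r x)⁻¹, ?_, by group⟩
    rw [MonoidHom.mem_ker, map_mul, map_inv, hg, hr, mul_inv_cancel]
  have hcen : ∀ x y, ⁅r x, r y⁆ ∈ σ.ker := fun x y => by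
    rw [MonoidHom.mem_ker, map_commutatorElement, hr, hr, commutatorElement_eq_one_iff_mul_comm]
    exact ((Commute.all _ _).map ut).eq
  have hcl : ∀ a ∈ σ.ker, ∀ g h : Γ, ⁅a * g, h⁆ = ⁅g, h⁆ := fun a ha g h => by
    have hh : a * g * h * g⁻¹ * a⁻¹ = g * h * g⁻¹ := by
      rw [show a * g * h * g⁻¹ * a⁻¹ = a * (g * h * g⁻¹) * a⁻¹ by group, ← cen a ha, mul_inv_cancel_right]
    calc ⁅a * g, h⁆ = (a * g * h * g⁻¹ * a⁻¹) * h⁻¹ := by rw [commutatorElement_def]; group
      _ = ⁅g, h⁆ := by rw [hh, commutatorElement_def]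
  have hcr : ∀ a ∈ σ.ker, ∀ g h : Γ, ⁅g, a * h⁆ = ⁅g, h⁆ := fun a ha g h => by
    rw [← commutatorElement_inv, hcl a ha, commutatorElement_inv]
  have hbl : ∀ x y w, ⁅r (x + y), r w⁆ = ⁅r x, r w⁆ * ⁅r y, r w⁆ := by
    intro x y w
    obtain ⟨a, ha, he⟩ := decomp (r x * r y) (x + y) (by rw [map_mul, hr, hr, ← map_mul, ← ofAdd_add])
    rw [← hcl a ha (r (x + y)), ← he]
    calc ⁅r x * r y, r w⁆ = r x * ⁅r y, r w⁆ * (r x)⁻¹ * ⁅r x, r w⁆ := by simp only [commutatorElement_def]; group
      _ = ⁅r y, r w⁆ * ⁅r x, r w⁆ := by rw [cen _ (hcen y w), mul_inv_cancel_right]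
      _ = ⁅r x, r w⁆ * ⁅r y, r w⁆ := cen _ (hcen x w) _
  -- a basis of the field
  obtain ⟨w, hw⟩ : ∃ w : F, ∀ a : ZMod 3, ZMod.castHom dvd_rfl F a ≠ w := by
    by_contra h
    push Not at h
    have := Fintype.card_le_of_surjective _ h
    rw [hF, ZMod.card] at this
    omega
  have hspan : ∀ x : F, ∃ a b : ℕ, a • (1 : F) + b • w = x := by
    set φ := ZMod.castHom (dvd_refl 3) F
    have hinj : Function.Injective fun ab : ZMod 3 × ZMod 3 => φ ab.1 + φ ab.2 * w := by
      rintro ⟨a, b⟩ ⟨a', b'⟩ h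
      simp only at h
      by_cases hb : b = b'
      · subst hb; exact Prod.ext (φ.injective (add_right_cancel h)) rfl
      · exfalso
        refine hw ((a' - a) / (b - b')) ?_
        rw [map_div₀, map_sub, map_sub, div_eq_iff (sub_ne_zero.2 fun e => hb (φ.injective e))]
        linear_combination -h
    intro x
    obtain ⟨⟨a, b⟩, rfl⟩ := ((Fintype.bijective_iff_injective_and_card _).2
      ⟨hinj, by rw [Fintype.card_prod, ZMod.card, hF]⟩).2 x
    refine ⟨a.val, b.val, ?_⟩
    show _ = φ a + φ b * w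
    conv_rhs => rw [← ZMod.natCast_zmod_val a, ← ZMod.natCast_zmod_val b, map_natCast, map_natCast]
    rw [nsmul_eq_mul, mul_one, nsmul_eq_mul]
  set c := ⁅r 1, r w⁆ with hc
  set C := Subgroup.zpowers c with hCdef
  have hnsmul : ∀ (n : ℕ) x y, ⁅r (n • x), r y⁆ = ⁅r x, r y⁆ ^ n := by
    intro n x y
    induction n with
    | zero =>
      have h0 := hbl 0 0 y
      rw [add_zero] at h0
      rw [zero_nsmul, pow_zero]
      exact mul_eq_left.1 h0.symm
    | succ n ih => rw [succ_nsmul, hbl, ih, pow_succ]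
  have hleft : ∀ y, ⁅r 1, r y⁆ ∈ C → ⁅r w, r y⁆ ∈ C → ∀ x, ⁅r x, r y⁆ ∈ C := fun y h1 h2 x => by
    obtain ⟨a, b, rfl⟩ := hspan x
    rw [hbl, hnsmul, hnsmul]
    exact mul_mem (pow_mem h1 _) (pow_mem h2 _)
  have hall : ∀ x y, ⁅r x, r y⁆ ∈ C := by
    have h11 : ∀ y, ⁅r y, r y⁆ ∈ C := fun y => by rw [commutatorElement_self]; exact one_mem _
    have a1 : ∀ x, ⁅r x, r 1⁆ ∈ C := hleft 1 (h11 1)
      (by rw [← commutatorElement_inv]; exact inv_mem (Subgroup.mem_zpowers c))
    have aw : ∀ x, ⁅r x, r w⁆ ∈ C := hleft w (Subgroup.mem_zpowers c) (h11 w)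
    intro x y
    refine hleft y ?_ ?_ x
    · rw [← commutatorElement_inv]; exact inv_mem (a1 y)
    · rw [← commutatorElement_inv]; exact inv_mem (aw y)
  have hc3 : c ^ 3 = 1 := by
    rw [hc, ← hnsmul, show (3 : ℕ) • (1 : F) = 0 • (1 : F) by
      rw [nsmul_eq_mul, CharP.cast_eq_zero F 3, zero_nsmul, zero_mul], hnsmul, pow_zero]
  have hC : C ≤ σ.ker := Subgroup.zpowers_le.2 (hcen 1 w)
  -- the derived group of the preimage of the unipotent group
  set U := (ut (F := F)).range with hU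
  have hUc : ⁅U.comap σ, U.comap σ⁆ ≤ C := by
    rw [Subgroup.commutator_le]
    rintro g ⟨x, hx⟩ h ⟨y, hy⟩
    obtain ⟨a, ha, rfl⟩ := decomp g x.toAdd hx.symm
    obtain ⟨b, hb, rfl⟩ := decomp h y.toAdd hy.symm
    rw [hcl a ha, hcr b hb]
    exact hall _ _
  have hidx : U.index = 80 := by
    have h := U.index_mul_card
    rw [card_sl2, hF, hU, ← Nat.card_congr (MonoidHom.ofInjective (f := ut (F := F)) ?_).toEquiv] at h
    · rw [Nat.card_congr (Multiplicative.toAdd (α := F)), Nat.card_eq_fintype_card, hF] at h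
      norm_num at h
      rw [hU]
      omega
    · intro x y h
      have := congrArg (fun M : Matrix.SpecialLinearGroup (Fin 2) F => M.1 0 1) h
      exact Multiplicative.toAdd.injective (by simpa [ut_val] using this)
  obtain ⟨i, hi, hzi⟩ := split_torus hσ
  obtain ⟨j, hj, hzj⟩ := nonsplit_torus hσ
  rw [hF] at hi hj
  have hle : σ.ker ≤ C := by
    intro z hz
    have h80 := hUc (pow_index_mem hσ U z hz)
    rw [hidx] at h80
    have h1 := (Nat.mul_dvd_mul_left 2 (orderOf_dvd_of_pow_eq_one (hzi z hz))).trans hi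
    have h2 := (Nat.mul_dvd_mul_left 2 (orderOf_dvd_of_pow_eq_one (hzj z hz))).trans hj
    have h9 : orderOf z ∣ 9 := Nat.dvd_of_mul_dvd_mul_left two_pos (Nat.dvd_sub h1 h2)
    have : z = (z ^ 80)⁻¹ := by
      rw [eq_inv_iff_mul_eq_one, ← pow_succ']
      exact orderOf_dvd_iff_pow_eq_one.1 (h9.trans (by norm_num))
    rw [this]
    exact inv_mem h80
  refine (Subgroup.card_dvd_of_le hle).trans ?_
  rw [Nat.card_zpowers]
  exact orderOf_dvd_of_pow_eq_one hc3

end CfsgLib.KnownA.AltMult
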