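import Mathlib
import Cfsg.Prelude.Def_KGroupFacts
import Cfsg.Agent.Lib.StructB.StemOfCentral
import Cfsg.Agent.Lib.StructB.MetacyclicBound
import Cfsg.Agent.Lib.KnownA.Stem

/-!
Counting stem extensions through perfect central extensions, and a criterion for the multiplier.
-/

set_option autoImplicit false

namespace CfsgLib.KnownA.AltMult

open scoped commutatorElement

/-- Every finite stem extension has kernel of order dividing `q`. -/
def StemBound.{w, u} (G : Type u) [Group G] (q : ℕ) : Prop :=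
  ∀ (Γ : Type w) [Group Γ] [Finite Γ] (σ : Γ →* G), Cfsg.IsStemExtension σ → Nat.card σ.ker ∣ q

theorem isCyclic_of_squarefree {G : Type*} [CommGroup G] [Finite G] (h : Squarefree (Nat.card G)) :
    IsCyclic G := by
  refine IsCyclic.of_exponent_eq_card (Nat.dvd_antisymm Group.exponent_dvd_nat_card ?_)
  rw [← Nat.prod_primeFactors_of_squarefree h]
  refine Finset.prod_primes_dvd _ (fun p hp => (Nat.prime_of_mem_primeFactors hp).prime) fun p hp => ?_
  haveI := Fact.mk (Nat.prime_of_mem_primeFactors hp)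
  obtain ⟨x, hx⟩ := exists_prime_orderOf_dvd_card' p (Nat.dvd_of_mem_primeFactors hp)
  exact hx ▸ Monoid.order_dvd_exponent x

/-- A squarefree bound and one central extension attaining it give the multiplier. -/
theorem multiplier_of_bound.{u, v} {G : Type u} [Group G] [Finite G] (q : ℕ) [NeZero q]
    (hq : Squarefree q) (hb : StemBound.{u} G q) {E : Type v} [Group E] [Finite E] (f : E →* G)
    (hf : Function.Surjective f) (hfc : f.ker ≤ Subgroup.center E) (z : E) (hz : z ∈ f.ker)
    (hzc : z ∈ commutator E) (hzo : orderOf z = q) : Cfsg.HasCyclicSchurMultiplier G q := by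
  obtain ⟨Γ₀, _, _, τ, hτ, π, hπ⟩ := CfsgLib.StructB.exists_stem_of_central f hf hfc
  have hle : q ∣ Nat.card τ.ker := by
    refine Dvd.dvd.trans ?_ (Subgroup.card_range_dvd π)
    have := hπ ⟨z, hz⟩ hzc
    rw [← hzo, show orderOf z = orderOf (⟨z, hz⟩ : f.ker) from (Subgroup.orderOf_mk z hz).symm,
      ← Nat.card_zpowers]
    exact Subgroup.card_dvd_of_le (Subgroup.zpowers_le.2 this)
  refine CfsgLib.StructB.hasCyclicSchurMultiplier_of_bound q ?_ τ hτ (Nat.dvd_antisymm (hb Γ₀ τ hτ) hle)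
  intro Γ _ _ σ hσ
  letI : CommGroup σ.ker := { (inferInstance : Group σ.ker) with
    mul_comm := fun a b => Subtype.ext (Subgroup.mem_center_iff.1 (hσ.2.1 b.2) a) }
  haveI : IsCyclic σ.ker := isCyclic_of_squarefree (Squarefree.squarefree_of_dvd (hb Γ σ hσ) hq)
  obtain ⟨k, hk⟩ := IsCyclic.exists_generator (α := σ.ker)
  refine ⟨k, k.2, fun x hx => ?_, ?_⟩
  · obtain ⟨i, hi⟩ := hk ⟨x, hx⟩
    exact ⟨i, by simpa using congrArg Subtype.val hi⟩
  · have h1 : orderOf (k : Γ) ∣ q := by
      rw [Subgroup.orderOf_coe]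
      exact (orderOf_dvd_natCard k).trans (hb Γ σ hσ)
    exact orderOf_dvd_iff_pow_eq_one.1 h1

section Perfect

variable {Γ G : Type*} [Group Γ] [Group G] {σ : Γ →* G}

theorem commutator_sup_ker (hσ : Function.Surjective σ) (hG : commutator G = ⊤) (x : Γ) :
    ∃ d ∈ commutator Γ, ∃ k ∈ σ.ker, x = d * k := by
  have h : σ x ∈ (commutator Γ).map σ := by
    rw [commutator_def, Subgroup.map_commutator, Subgroup.map_top_of_surjective σ hσ, ← commutator_def, hG]
    trivial
  obtain ⟨d, hd, hdx⟩ := h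
  exact ⟨d, hd, d⁻¹ * x, by rw [MonoidHom.mem_ker, map_mul, map_inv, hdx, inv_mul_cancel], by group⟩

theorem commutator_commutator_eq (hσ : Function.Surjective σ) (hc : σ.ker ≤ Subgroup.center Γ)
    (hG : commutator G = ⊤) : ⁅commutator Γ, commutator Γ⁆ = commutator Γ := by
  refine le_antisymm (Subgroup.commutator_mono le_top le_top |>.trans (le_of_eq (commutator_def Γ).symm)) ?_
  conv_lhs => rw [commutator_def]
  rw [Subgroup.commutator_le]
  intro x _ y _
  obtain ⟨d, hd, k, hk, rfl⟩ := commutator_sup_ker hσ hG x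
  obtain ⟨e, he, l, hl, rfl⟩ := commutator_sup_ker hσ hG y
  have ck : ∀ a ∈ σ.ker, ∀ g : Γ, g * a = a * g := fun a ha g => Subgroup.mem_center_iff.1 (hc ha) g
  have : ⁅d * k, e * l⁆ = ⁅d, e⁆ := by
    calc ⁅d * k, e * l⁆ = d * (k * (e * l)) * k⁻¹ * (d⁻¹ * (l⁻¹ * e⁻¹)) := by
          rw [commutatorElement_def]; group
      _ = d * (e * l) * (d⁻¹ * (l⁻¹ * e⁻¹)) := by rw [← ck k hk (e * l)]; group
      _ = d * e * (l * d⁻¹) * l⁻¹ * e⁻¹ := by group
      _ = ⁅d, e⁆ := by rw [← ck l hl d⁻¹, commutatorElement_def]; group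
  rw [this]
  exact Subgroup.commutator_mem_commutator hd he

/-- The derived group of a central extension of a perfect group is a stem extension of it. -/
theorem stem_commutator (hσ : Function.Surjective σ) (hc : σ.ker ≤ Subgroup.center Γ)
    (hG : commutator G = ⊤) : Cfsg.IsStemExtension (σ.comp (commutator Γ).subtype) := by
  refine ⟨fun g => ?_, fun x hx => Subgroup.mem_center_iff.2 fun y => Subtype.ext
    (Subgroup.mem_center_iff.1 (hc hx) y), fun x _ => ?_⟩
  · obtain ⟨x, rfl⟩ := hσ g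
    obtain ⟨d, hd, k, hk, rfl⟩ := commutator_sup_ker hσ hG x
    exact ⟨⟨d, hd⟩, by rw [map_mul, MonoidHom.mem_ker.1 hk, mul_one]; rfl⟩
  · have h : (commutator (commutator Γ)).map (commutator Γ).subtype = commutator Γ := by
      rw [Subgroup.map_subtype_commutator, commutator_commutator_eq hσ hc hG]
    obtain ⟨y, hy, hyx⟩ := (SetLike.ext_iff.1 h (x : Γ)).2 x.2
    rwa [← Subtype.ext hyx]

theorem eq_top_of_stem (hσ : Cfsg.IsStemExtension σ) (hG : commutator G = ⊤) : commutator Γ = ⊤ := by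
  refine eq_top_iff.2 fun x _ => ?_
  obtain ⟨d, hd, k, hk, rfl⟩ := commutator_sup_ker hσ.1 hG x
  exact Subgroup.mul_mem _ hd (hσ.2.2 hk)

end Perfect

/-- A power of a kernel element lies in the derived group of a preimage. -/
theorem pow_index_mem {Γ G : Type*} [Group Γ] [Finite Γ] [Group G] {σ : Γ →* G}
    (hσ : Cfsg.IsStemExtension σ) (N : Subgroup G) (z : Γ) (hz : z ∈ σ.ker) :
    z ^ N.index ∈ ⁅N.comap σ, N.comap σ⁆ := by
  set M := N.comap σ with hM
  have hidx : M.index = N.index := N.index_comap_of_surjective hσ.1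
  have key : ∀ (k : ℕ) (g₀ : Γ), g₀⁻¹ * z ^ k * g₀ ∈ M → g₀⁻¹ * z ^ k * g₀ = z ^ k := fun k g₀ _ => by
    rw [mul_assoc, ← Subgroup.mem_center_iff.mp (pow_mem (hσ.2.1 hz) k) g₀, inv_mul_cancel_left]
  have h1 : MonoidHom.transfer (H := M) (Abelianization.of (G := M)) z = 1 :=
    MonoidHom.mem_ker.mp (Abelianization.commutator_subset_ker _ (hσ.2.2 hz))
  rw [MonoidHom.transfer_eq_pow _ z key, ← MonoidHom.mem_ker, Abelianization.ker_of] at h1
  rw [← hidx, ← Subgroup.map_subtype_commutator]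
  exact ⟨_, h1, rfl⟩

/-- A perfect group covered by a perfect group with a bound on its stem extensions. -/
theorem stemBound_of_surjective.{u, u'} {G : Type u} {H : Type u'} [Group G] [Finite G] [Group H]
    [Finite H] (f : H →* G) (hf : Function.Surjective f) (hfc : f.ker ≤ Subgroup.center H)
    (hH : commutator H = ⊤) {q : ℕ} (hb : StemBound.{max u u'} H q) :
    StemBound.{u} G (q * Nat.card f.ker) := by
  intro Γ _ _ σ hσ
  have hG : commutator G = ⊤ := by
    rw [commutator_def, ← Subgroup.map_top_of_surjective f hf, ← Subgroup.map_commutator, ← commutator_def, hH]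
  have hΓ := eq_top_of_stem hσ hG
  let P : Subgroup (Γ × H) := (σ.comp (MonoidHom.fst Γ H)).eqLocus (f.comp (MonoidHom.snd Γ H))
  let π : P →* H := (MonoidHom.snd Γ H).comp P.subtype
  have hπ : Function.Surjective π := fun h => by
    obtain ⟨g, hg⟩ := hσ.1 (f h)
    exact ⟨⟨(g, h), hg⟩, rfl⟩
  have hπc : π.ker ≤ Subgroup.center P := fun x hx => Subgroup.mem_center_iff.2 fun y => by
    have h2 : (x : Γ × H).2 = 1 := hx
    have h1 : (x : Γ × H).1 ∈ σ.ker := by
      rw [MonoidHom.mem_ker, show σ (x : Γ × H).1 = f (x : Γ × H).2 from x.2, h2, map_one]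
    exact Subtype.ext (Prod.ext (Subgroup.mem_center_iff.1 (hσ.2.1 h1) _) (by simp [h2]))
  have hst := stem_commutator hπ hπc hH
  let ψ : P →* Γ := (MonoidHom.fst Γ H).comp P.subtype
  have hψ : Function.Surjective ψ := fun g => by
    obtain ⟨h, hh⟩ := hf (σ g)
    exact ⟨⟨(g, h), hh.symm⟩, rfl⟩
  let ψ' : commutator P →* Γ := ψ.comp (commutator P).subtype
  have hψ' : Function.Surjective ψ' := fun g => by
    have : g ∈ (commutator P).map ψ := by
      rw [commutator_def, Subgroup.map_commutator, Subgroup.map_top_of_surjective ψ hψ, ← commutator_def, hΓ]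
      trivial
    obtain ⟨x, hx, rfl⟩ := this
    exact ⟨⟨x, hx⟩, rfl⟩
  have h1 := Subgroup.card_dvd_of_surjective ψ' hψ'
  rw [(π.comp (commutator P).subtype).ker.card_eq_card_quotient_mul_card_subgroup,
    Nat.card_congr (QuotientGroup.quotientKerEquivOfSurjective _ hst.1).toEquiv,
    σ.ker.card_eq_card_quotient_mul_card_subgroup,
    Nat.card_congr (QuotientGroup.quotientKerEquivOfSurjective _ hσ.1).toEquiv,
    f.ker.card_eq_card_quotient_mul_card_subgroup,
    Nat.card_congr (QuotientGroup.quotientKerEquivOfSurjective _ hf).toEquiv] at h1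
  rw [mul_assoc] at h1
  have h2 := Nat.dvd_of_mul_dvd_mul_left Nat.card_pos h1
  refine h2.trans ?_
  rw [mul_comm q]
  exact Nat.mul_dvd_mul_left _ (hb _ _ hst)

/-- An element of the second kernel in a fibre product. -/
theorem fibre_snd {G A B : Type*} [Group G] [Group A] [Group B] (f : A →* G) (g : B →* G)
    (hf : Function.Surjective f) (k : ℕ) (hk : ∀ a ∈ f.ker, a ^ k = 1) (w : B) (hw : w ∈ g.ker)
    (hwc : w ∈ commutator B) :
    ∃ h : ((1, w ^ k) : A × B) ∈ (f.comp (MonoidHom.fst A B)).eqLocus (g.comp (MonoidHom.snd A B)),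
      (⟨(1, w ^ k), h⟩ : (f.comp (MonoidHom.fst A B)).eqLocus (g.comp (MonoidHom.snd A B))) ∈
        commutator ((f.comp (MonoidHom.fst A B)).eqLocus (g.comp (MonoidHom.snd A B))) := by
  set P := (f.comp (MonoidHom.fst A B)).eqLocus (g.comp (MonoidHom.snd A B)) with hP
  let ψ : P →* B := (MonoidHom.snd A B).comp P.subtype
  have hψ : Function.Surjective ψ := fun b => by
    obtain ⟨a, ha⟩ := hf (g b)
    exact ⟨⟨(a, b), ha⟩, rfl⟩
  have : w ∈ (commutator P).map ψ := by
    rwa [commutator_def, Subgroup.map_commutator, Subgroup.map_top_of_surjective ψ hψ, ← commutator_def]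
  obtain ⟨x, hx, hxw⟩ := this
  have hxw' : (x : A × B).2 = w := hxw
  have hx1 : (x : A × B).1 ∈ f.ker := by
    rw [MonoidHom.mem_ker, show f (x : A × B).1 = g (x : A × B).2 from x.2, hxw']; exact hw
  have e : ((x ^ k : P) : A × B) = (1, w ^ k) := by
    rw [SubmonoidClass.coe_pow]
    exact Prod.ext (hk _ hx1) (by rw [Prod.pow_snd, hxw'])
  exact ⟨e ▸ (x ^ k).2, by
    rw [show (⟨(1, w ^ k), e ▸ (x ^ k).2⟩ : P) = x ^ k from Subtype.ext e.symm]
    exact Subgroup.pow_mem _ hx k⟩

end CfsgLib.KnownA.AltMult
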